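import Mathlib
import Cfsg.Agent.Omega.TitsIso.TitsSide
set_option linter.all false

-- part: Mrg/Omega/TitsIso/Rel
section
section


/-!
The relations between the eight central involutions of an apartment of the octagon of the Tits
group.  `C Z i = (Z (i-1) * Z (i+2)) ^ 2 * (Z i * Z (i+1))` is the involution of the odd vertex
`2 i + 1`.
-/

set_option autoImplicit false

namespace Cfsg.Agent.Omega.TitsIso

variable {M : Type*} [Group M]

/-- the involution attached to the odd vertex `2 i + 1` -/
def C (Z : ZMod 8 → M) (i : ZMod 8) : M := (Z (i - 1) * Z (i + 2)) ^ 2 * (Z i * Z (i + 1))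

/-- the relations -/
structure TitsRel (Z : ZMod 8 → M) : Prop where
  sq : ∀ i, Z i * Z i = 1
  c1 : ∀ i, Z i * Z (i + 1) = Z (i + 1) * Z i
  c2 : ∀ i, Z i * Z (i + 2) = Z (i + 2) * Z i
  o4 : ∀ i, (Z i * Z (i + 3)) ^ 4 = 1
  o5 : ∀ i, (Z i * Z (i + 4)) ^ 5 = 1
  r : ∀ i, C Z i * Z (i + 3) * (C Z i)⁻¹ = Z (i + 2) * Z (i + 3)
  l : ∀ i, C Z i * Z (i - 2) * (C Z i)⁻¹ = Z (i - 1) * Z (i - 2)

namespace TitsRel

variable {Z : ZMod 8 → M}

theorem c1' (h : TitsRel Z) (i : ZMod 8) : Z i * Z (i - 1) = Z (i - 1) * Z i := by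
  have := h.c1 (i - 1)
  rw [sub_add_cancel] at this
  exact this.symm

theorem c2' (h : TitsRel Z) (i : ZMod 8) : Z i * Z (i - 2) = Z (i - 2) * Z i := by
  have := h.c2 (i - 2)
  rw [sub_add_cancel] at this
  exact this.symm

theorem o5' (h : TitsRel Z) (i : ZMod 8) : (Z (i + 4) * Z i) ^ 5 = 1 := by
  have := h.o5 (i + 4)
  have e : i + 4 + 4 = i := by
    rw [add_assoc]; have : (4 + 4 : ZMod 8) = 0 := by decide
    rw [this, add_zero]
  rwa [e] at this

theorem inv (h : TitsRel Z) (i : ZMod 8) : (Z i)⁻¹ = Z i := inv_eq_of_mul_eq_one_left (h.sq i)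

/-- `C i = (Z (i-1) * Z (i+2)) ^ 2 * (Z i * Z (i+1))` commutes with the four inner involutions. -/
theorem core_comm (h : TitsRel Z) (i : ZMod 8) :
    Commute ((Z (i - 1) * Z (i + 2)) ^ 2) (Z (i - 1)) ∧
    Commute ((Z (i - 1) * Z (i + 2)) ^ 2) (Z (i + 2)) ∧
    Commute ((Z (i - 1) * Z (i + 2)) ^ 2) (Z i) ∧
    Commute ((Z (i - 1) * Z (i + 2)) ^ 2) (Z (i + 1)) := by
  have ha : Z (i - 1) * Z (i - 1) = 1 := h.sq _
  have hb : Z (i + 2) * Z (i + 2) = 1 := h.sq _
  have h4 : (Z (i - 1) * Z (i + 2)) ^ 4 = 1 := by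
    have := h.o4 (i - 1)
    have e : i - 1 + 3 = i + 2 := by ring
    rwa [e] at this
  set a := Z (i - 1) with hadef
  set b := Z (i + 2) with hbdef
  have hinv : ((a * b) ^ 2)⁻¹ = (a * b) ^ 2 := by
    rw [inv_eq_iff_mul_eq_one, ← pow_add]; exact h4
  have hai : a⁻¹ = a := inv_eq_of_mul_eq_one_left ha
  have hbi : b⁻¹ = b := inv_eq_of_mul_eq_one_left hb
  have h1 : a * (a * b) * a⁻¹ = (a * b)⁻¹ := by
    rw [mul_inv_rev, hai, hbi, ← mul_assoc, ha, one_mul]
  have h2 : b * (a * b) * b⁻¹ = (a * b)⁻¹ := by
    rw [mul_inv_rev, hai, hbi]; simp only [mul_assoc, hb, mul_one]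
  have ca : Commute ((a * b) ^ 2) a := by
    have : a * (a * b) ^ 2 * a⁻¹ = (a * b) ^ 2 := by
      rw [← conj_pow, h1, inv_pow, hinv]
    exact (mul_inv_eq_iff_eq_mul.mp this).symm
  have cb : Commute ((a * b) ^ 2) b := by
    have : b * (a * b) ^ 2 * b⁻¹ = (a * b) ^ 2 := by
      rw [← conj_pow, h2, inv_pow, hinv]
    exact (mul_inv_eq_iff_eq_mul.mp this).symm
  refine ⟨ca, cb, ?_, ?_⟩
  · have e1 : Commute a (Z i) := (h.c1' i).symm
    have e2 : Commute b (Z i) := (h.c2 i).symm
    exact (e1.mul_left e2).pow_left 2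
  · have e1 : Commute a (Z (i + 1)) := by
      have := h.c2 (i - 1)
      have e : i - 1 + 2 = i + 1 := by ring
      rwa [e] at this
    have e2 : Commute b (Z (i + 1)) := by
      have := h.c1 (i + 1)
      have e : i + 1 + 1 = i + 2 := by ring
      rw [e] at this
      exact this.symm
    exact (e1.mul_left e2).pow_left 2

theorem commute_C0 (h : TitsRel Z) (i : ZMod 8) : Commute (C Z i) (Z i) := by
  obtain ⟨-, -, h3, -⟩ := h.core_comm i
  exact h3.mul_left ((Commute.refl _).mul_left (h.c1 i).symm)

theorem commute_C1 (h : TitsRel Z) (i : ZMod 8) : Commute (C Z i) (Z (i + 1)) := by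
  obtain ⟨-, -, -, h4⟩ := h.core_comm i
  exact h4.mul_left (Commute.mul_left (h.c1 i) (Commute.refl _))

theorem commute_Cm1 (h : TitsRel Z) (i : ZMod 8) : Commute (C Z i) (Z (i - 1)) := by
  obtain ⟨h1, -, -, -⟩ := h.core_comm i
  refine h1.mul_left (Commute.mul_left (h.c1' i) ?_)
  have := h.c2 (i - 1)
  have e : i - 1 + 2 = i + 1 := by ring
  rw [e] at this
  exact this.symm

theorem commute_C2 (h : TitsRel Z) (i : ZMod 8) : Commute (C Z i) (Z (i + 2)) := by
  obtain ⟨-, h2, -, -⟩ := h.core_comm i
  refine h2.mul_left (Commute.mul_left (h.c2 i) ?_)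
  have := h.c1 (i + 1)
  have e : i + 1 + 1 = i + 2 := by ring
  rwa [e] at this

theorem C_sq (h : TitsRel Z) (i : ZMod 8) : C Z i * C Z i = 1 := by
  obtain ⟨-, -, h3, h4⟩ := h.core_comm i
  have hc : Commute ((Z (i - 1) * Z (i + 2)) ^ 2) (Z i * Z (i + 1)) := h3.mul_right h4
  have h44 : (Z (i - 1) * Z (i + 2)) ^ 4 = 1 := by
    have := h.o4 (i - 1)
    have e : i - 1 + 3 = i + 2 := by ring
    rwa [e] at this
  have hz : (Z i * Z (i + 1)) ^ 2 = 1 := by
    rw [(show Commute (Z i) (Z (i + 1)) from h.c1 i).mul_pow, pow_two, pow_two, h.sq, h.sq, one_mul]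
  have : (C Z i) ^ 2 = 1 := by
    rw [C, hc.mul_pow, ← pow_mul, h44, one_mul, hz]
  rwa [pow_two] at this

theorem C_inv (h : TitsRel Z) (i : ZMod 8) : (C Z i)⁻¹ = C Z i :=
  inv_eq_of_mul_eq_one_left (h.C_sq i)

end TitsRel

/-- The subgroup `⟨Z_{-2}, …, Z_2, C_{-2}, …, C_1⟩` (of order `5120` in the Tits group). -/
def H0 (Z : ZMod 8 → M) : Subgroup M :=
  Subgroup.closure {Z (-2), Z (-1), Z 0, Z 1, Z 2, C Z (-2), C Z (-1), C Z 0, C Z 1}

/-- The element `Z 0` is centralised by `H0`. -/
theorem TitsRel.H0_le_centralizer {Z : ZMod 8 → M} (h : TitsRel Z) :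
    H0 Z ≤ Subgroup.centralizer {Z 0} := by
  rw [H0, Subgroup.closure_le]
  intro x hx
  rw [SetLike.mem_coe, Subgroup.mem_centralizer_singleton_iff]
  simp only [Set.mem_insert_iff, Set.mem_singleton_iff] at hx
  rcases hx with h' | h' | h' | h' | h' | h' | h' | h' | h' <;> rw [h']
  · have := h.c2 (-2); rw [neg_add_cancel] at this; exact this
  · have := h.c1 (-1); rw [neg_add_cancel] at this; exact this
  · have := h.c1 0; rw [zero_add] at this; exact this.symm
  · have := h.c2 0; rw [zero_add] at this; exact this.symm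
  · have := h.commute_C2 (-2); rw [neg_add_cancel] at this; exact this
  · have := h.commute_C1 (-1); rw [neg_add_cancel] at this; exact this
  · exact h.commute_C0 0
  · have := h.commute_Cm1 1; rw [sub_self] at this; exact this

/-- The statement of part (A): `H0` has index at most `3510` (proved in `TitsIso/Index.lean`). -/
def IndexLe.{u} : Prop := ∀ (M : Type u) [Group M] (Z : ZMod 8 → M), TitsRel Z →
  Subgroup.closure (Set.range Z) = ⊤ → (H0 Z).index ≤ 3510 ∧ (H0 Z).index ≠ 0

end Cfsg.Agent.Omega.TitsIso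

end

section


/-!
# The class of the first involution of the Tits group has at least 703 elements
-/

set_option autoImplicit false

namespace Cfsg.Agent.Omega.TitsIso.TitsSideIdx

open Cfsg.Agent.ChevalleyStructure.Tits.Pack Cfsg.Agent.ChevalleyStructure.Tits.Data
  Cfsg.Agent.ChevalleyStructure.Tits.Sat Cfsg.Agent.ChevalleyStructure.Tits.Final
  Cfsg.Agent.ChevalleyStructure.Tits.Mat Cfsg.Agent.ChevalleyStructure.Tits.Order
  Cfsg.Agent.ChevalleyStructure.Tits.Main Cfsg.Agent.Omega.TitsIso.TitsSideRel
  Cfsg.Agent.Omega.TitsIso.TitsSide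

open scoped MatrixGroups

/-- packed matrices of the eight involutions -/
def zps : List ℕ := [
  0x80000000000004000000000000200000000000010000000000000800000000000040000000000002000000000000100000000000008000000000000400000000001020000000000001000000000000080000000000004000000000000200000000080010000000000000800000000a1004000000000000200000000108010000000000400800000000000040000000080002000000000000100000000a0800800000000000040000000404002000000000000100000000000008000000002000400000000000020000000000001000000000000080000004020004000000100000200000000000010000001400000800300000000040000002001002000000000080100000000000008000000010000400041004002020f000001401010000000008040800000000200040000000000002000000002808100410000000008040000000000400100000000020010000000001,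
  0x8000000000000400000000000020000000000001000000000000080000000000004000000000000200000000000010000000000000800000000000040000000000002000000000000100000000000008000000000000400000000000020000000000001000000000000080000000000004000000000000200000000000010000000000000800000000000040000000000002000000000000100000004000008000000000000400000020000020000000000001000000000000080000010000004000000000000200000080000010000004000000800000100000040000008000002000000400000100000120000008000001000000400000880000020000044000001000001200000080080002000004004001100000200200088000010010002000000820800041000040040001080002092000004000158000000000008000000000000400000000000021000000000001,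
  0x8000000000000400000000000020000000000001000000000000080000000000004000000000000200000000000010000000000000800000000000040000000000002000000000000100000000000008000000000000400000000010020000000000001000000000000080000000000004000000000000200000000000010000000000000800000000000040000000000002000000080000100000000000008000000200000400000000000020000000080001000000104000080000000200004000008810000200000400800010000022040000800000000000040000000000002000001000000100000000000008000008020000400000001000020000020080001000010800000080300010000004000000000000200000040000010000001000400800001020020040410080001002d00004080080104000000000008400000000000401000000000020100000000001,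
  0x80000000000004000000000000200000000000010000000000004800000000000740000000000002000000000000100000000000008000000000001400000000000020000000000019000000000000080000000000024000000000002a000000000000100000000000008000000000000400000000000020000000000001000000000000080000000000104000000000000200000000001a1000000000000080000000000484000000000000200000000001010000000000180800002000000040000000005212000060000008100000000000a4800000000000040000000000002000000000000500000000000008000000000006400000000000020000000000009000000000000a8000000000000400000000000020000000000001000000000000080000000000024000000000003a000000000000100000500000008000010000000400000000000020000100000001,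
  0x81014000000004000000000000200040000000010201000000000808028000000040400200820f0200008000000010000000000000801000000000040080040000002000000000000100000280030008000000000000400000800000020004020000001000000000000080000000000004000000000000200040000000010000000000000800000000000040020200000002000000000000100105000000008000000000000400010000000020000000000001002000000000080108000000004000000000000200850000000010000000000000800100000000040000000000002000000000000100000000000008000000000000408000000000020000000000001000000000000080000000000004000000000000200000000000010000000000000800000000000040000000000002000000000000100000000008208000000000020400000000080020000000008001,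
  0x8000200000495400010800020020000820001001000000400082080000110004004000008800200200000400010010000004800000800000220000040000011000002000000800000100000048000008000002000000400000100000020000008000001000000200000080000010000004000000000000200000080000010000000000000800000000000040000040000002000000000000100000200000008000000000000400000000000020000000000001000000000000080000000000004000000000000200000000000010000000000000800000000000040000000000002000000000000100000000000008000000000000400000000000020000000000001000000000000080000000000004000000000000200000000000010000000000000800000000000040000000000002000000000000100000000000018000000000000400000000000020000000000081,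
  0x8010010200000400800010082d20040040800001002000800000080000020000004000000000000200000080000010000001080300800010040000040000800000002000040100000100000000000008000000800000400000000000020000000000001000020440000080001002000004000081100000200004000000010000208000000800010000000040000000000002000004000000100000000000008000010000000400000000000020000000000001000000000000080000000000004000000000000200000000000010000000000000800000000000040080000000002000000000000100000000000008000000000000400000000000020000000000001000000000000080000000000004000000000000200000000000010000000000000800000000000040000000000002000000000000100000000000028000000000002400000000008020000000000801,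
  0x80000000000005c000000000002400000000000100000000000008000000000000400000000000020000000000001500000000000090000000000004000000000000260000000000010000000000000a00000000000040000000000002000000000000125000000000008100000000000484a0000600002000000000000101800002000008080000000000400000000000021200000000001000000000000085800000000004000000000000208000000000010000000000000800000000000040000000000002000000000000100000000000008000000000000540000000000024000000000001000000000000098000000000004000000000000280000000000010000000000000800000000000040000000000002e0000000000012000000000000800000000000040000000000002000000000000100000000a00008000000080000400000000000020000000800001]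

/-- packed matrix of the involution with index `i` -/
def zp (i : ℕ) : ℕ := zps.getD i 0

theorem zp_ok : ∀ i : ZMod 8, zp i.val = evalW (zw i) := by decide +kernel

/-- conjugation by an involution -/
def cj (j X : ℕ) : ℕ := mulP (mulP (zp j) X) (zp j)

/-- first column -/
def lab (X : ℕ) : ℕ := Nat.mod X 4503599627370496

/-- labels along a walk -/
def labels : ℕ → List ℕ → List ℕ
  | X, [] => [lab X]
  | X, j :: l => lab X :: labels (cj j X) l

/-- a walk in the class -/
def path : List ℕ := [
  3, 7, 5, 4, 5, 3, 5, 4, 7, 5, 6, 2, 6, 2, 3, 7, 1, 3, 5, 7, 0, 4, 5, 4, 6, 4, 5, 2, 4, 5, 3, 5, 1, 0, 3, 5,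
  7, 4, 0, 5, 2, 0, 6, 1, 7, 0, 5, 6, 0, 6, 5, 7, 2, 0, 3, 5, 2, 3, 2, 6, 3, 0, 7, 3, 2, 3, 7, 2, 6, 3, 4, 1,
  6, 1, 3, 6, 3, 6, 3, 6, 3, 1, 0, 1, 5, 7, 6, 7, 5, 1, 6, 1, 6, 7, 4, 2, 0, 2, 5, 2, 7, 6, 4, 2, 1, 5, 6, 2,
  6, 3, 1, 5, 3, 5, 6, 5, 0, 6, 7, 6, 2, 7, 0, 1, 0, 7, 0, 1, 4, 3, 5, 2, 3, 5, 6, 7, 4, 2, 4, 6, 2, 7, 4, 1,
  4, 7, 2, 1, 4, 5, 7, 5, 2, 3, 5, 1, 0, 1, 4, 6, 2, 3, 7, 4, 1, 5, 0, 6, 5, 0, 6, 0, 3, 6, 7, 4, 3, 2, 4, 3,
  7, 0, 4, 3, 6, 4, 6, 0, 5, 4, 5, 2, 0, 4, 2, 4, 6, 0, 3, 5, 1, 7, 1, 3, 2, 0, 7, 0, 2, 3, 1, 5, 0, 3, 0, 5,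
  6, 7, 3, 1, 2, 0, 7, 2, 7, 3, 2, 5, 2, 7, 1, 7, 6, 2, 6, 0, 5, 3, 2, 6, 4, 2, 7, 2, 7, 2, 6, 5, 2, 6, 2, 0,
  1, 7, 0, 1, 3, 7, 1, 3, 0, 6, 5, 0, 3, 5, 7, 1, 7, 0, 2, 4, 5, 7, 0, 2, 3, 0, 2, 3, 7, 0, 6, 7, 0, 7, 1, 7,
  3, 6, 0, 5, 6, 5, 7, 3, 0, 5, 1, 7, 1, 4, 5, 7, 5, 6, 2, 6, 7, 0, 3, 7, 2, 4, 7, 0, 1, 7, 0, 3, 6, 4, 1, 6,
  2, 4, 0, 4, 5, 0, 6, 0, 2, 1, 3, 2, 0, 6, 2, 6, 7, 3, 4, 6, 7, 1, 3, 2, 1, 2, 6, 7, 0, 7, 5, 3, 5, 6, 7, 3,
  7, 1, 5, 1, 5, 6, 5, 2, 3, 6, 3, 0, 2, 3, 5, 7, 5, 4, 3, 0, 1, 5, 0, 4, 3, 2, 0, 4, 2, 1, 3, 1, 4, 7, 5, 3,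
  4, 5, 2, 5, 1, 5, 7, 0, 3, 0, 1, 7, 3, 4, 3, 2, 5, 6, 7, 2, 7, 2, 3, 4, 0, 1, 5, 1, 2, 4, 5, 4, 3, 4, 5, 1,
  7, 6, 1, 5, 6, 0, 6, 4, 6, 3, 7, 6, 0, 1, 0, 4, 1, 5, 0, 5, 3, 1, 6, 7, 5, 0, 3, 5, 2, 7, 1, 7, 3, 0, 6, 1,
  5, 3, 4, 7, 1, 3, 4, 5, 7, 4, 3, 2, 0, 7, 5, 4, 6, 7, 5, 6, 1, 7, 6, 7, 0, 7, 3, 2, 6, 5, 1, 7, 1, 6, 3, 5,
  2, 4, 7, 3, 1, 5, 4, 7, 2, 5, 0, 1, 3, 2, 7, 5, 3, 4, 1, 7, 1, 5, 0, 2, 5, 6, 1, 7, 2, 7, 6, 7, 2, 7, 5, 7,
  1, 7, 4, 3, 4, 2, 0, 2, 6, 3, 7, 2, 1, 7, 6, 3, 6, 1, 0, 4, 5, 3, 2, 5, 0, 1, 3, 2, 0, 5, 4, 3, 6, 2, 0, 4,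
  5, 3, 0, 5, 1, 5, 2, 7, 5, 4, 0, 6, 3, 2, 0, 7, 4, 7, 5, 3, 2, 1, 7, 2, 0, 7, 6, 0, 6, 2, 7, 5, 6, 0, 6, 1,
  4, 5, 3, 2, 6, 5, 0, 5, 0, 1, 3, 7, 1, 4, 6, 0, 6, 4, 1, 6, 0, 1, 5, 6, 0, 3, 0, 5, 6, 4, 7, 2, 7, 6, 5, 7,
  1, 4, 6, 4, 3, 1, 2, 0, 6, 5, 4, 2, 5, 2, 0, 4, 5, 6, 3, 5, 7, 2, 4, 5, 2, 0, 6, 0, 2, 0, 3, 1, 6, 1, 2, 1,
  6, 3, 0, 1, 7, 1, 3, 7, 2, 5, 7, 0, 1, 5, 1, 4, 1, 0]

/-- labels of the walk -/
def labs : List ℕ := [
  0x10000000001, 0x1110000000001, 0x110000000001, 0x110181838801, 0xcc18180f082, 0xcc000048002,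
  0x104c100048002, 0x104c001c05002, 0x1110101c18881, 0x100100008001, 0x100000000001, 0x8000000802, 0x1,
  0x100000010002, 0x801, 0x8881, 0x8801, 0x11c181808801, 0x1114301808881, 0x1114200418881, 0x100000008001,
  0x78000060002, 0x1000380000001, 0x154301c24803, 0x110c101838081, 0x62301c01083, 0x1018081818881,
  0x14e000077002, 0x11c000038801, 0xee00003d002, 0xee181879082, 0x106e201873002, 0x106e30043f082,
  0x14001c00801, 0x100c08100b883, 0x112c001061803, 0x100180020081, 0x1128080442003, 0x100808040a003,
  0x4000c10881, 0x105a080c18002, 0xa2380c18002, 0x118300000001, 0xec180008002, 0x104c080008002,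
  0x105e08101d882, 0x10001810081, 0x100e08180a083, 0x101c08081f803, 0x14001400001, 0x4000410881,
  0x104e080809802, 0x105c08181c082, 0x38801, 0x118c181060882, 0x10ac10100a802, 0x8000428081, 0x102c181001883,
  0x110c10106b803, 0x108080400001, 0x11c080c18001, 0x1192001020002, 0x18300c18001, 0x6080801883,
  0x11ae28086b803, 0x114301c00001, 0x1014101c28081, 0x11c2201020002, 0x10ba101020002, 0x10ac10040a002,
  0x124180442002, 0x1110281030081, 0xcc000400003, 0x110080820081, 0x8001405002, 0x104200808081,
  0x28001060003, 0x104380c18001, 0x800140f082, 0x104300c28881, 0x2800106a083, 0x104280830881, 0xde000c00003,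
  0x109a001404803, 0x1100281830081, 0x1100380000001, 0x104380c10081, 0x810106c802, 0x105c101c6d882,
  0x105c000401802, 0x1114081820881, 0x1088001c04803, 0x114280030881, 0x104e000c01802, 0x1a001c05002,
  0x100c200430081, 0x42201824802, 0x100c081408881, 0xa0380058002, 0x1104181028881, 0x30007b003,
  0x108281410801, 0x104c380870882, 0x1c380018881, 0x10000821082, 0x62301021082, 0x1100000c18001,
  0x78001061803, 0x101009803, 0x101002083, 0x800801, 0x10000000801, 0x10000800801, 0x10a2301446083,
  0x10a2281802083, 0x1114300c20801, 0x1114280000001, 0x124300c58003, 0x80418881, 0x116c181877002,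
  0x101c200430881, 0x1134300869082, 0x114280000001, 0x10f8380c58003, 0x80c58003, 0x110c180000001,
  0x1ca201069082, 0x100420881, 0x18001c20881, 0x11c2181833002, 0x42201831082, 0x101c080418801, 0xce180037003,
  0x114e38043d083, 0x114e281c43003, 0x1018180038001, 0x10420085d082, 0x104300c36882, 0x78000c7e882,
  0x150080835082, 0x1004001800801, 0x110181808801, 0x113a08186c883, 0x101a081c1f083, 0x1110380030001,
  0x106a200c64882, 0x28000061802, 0x180400081, 0x1a301c19803, 0x1830001, 0x1428081, 0x1830105c802,
  0x18301c43882, 0xe0281c2b882, 0x14001400801, 0x104808140d082, 0x10e6180c0d082, 0x1108100810881,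
  0x10001010881, 0x112e28007d002, 0x113c281c53802, 0xec001c3b802, 0x1014281000881, 0x80410801, 0x180038001,
  0x50200835082, 0x1008080808801, 0x12201026883, 0x200837803, 0x101c080c18001, 0x42201020002, 0x50200031882,
  0x100c081c08081, 0x10c301c00001, 0x1084381c5e882, 0xc038185b802, 0x1018300000001, 0x1044300c58003,
  0x11bc000c58003, 0x100c181400881, 0x10001833802, 0x10001032082, 0xc18801, 0xc18081, 0x10142f003,
  0x101424803, 0x10142d083, 0x101426883, 0x100280028001, 0x11d418082c082, 0xc001c08881, 0x10f8381058083,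
  0x50201010083, 0x42201014883, 0x16a28146d003, 0x1016001405003, 0x113618105c883, 0x1124181463883,
  0x10ee380477083, 0x16e18007d003, 0x1110281c28801, 0x100428801, 0x80c52883, 0x16e100452883, 0x114200800001,
  0x136101420802, 0x10f0301c20802, 0xc001800001, 0x1108201000001, 0x1092101424803, 0x1a301006883,
  0x10f4281806883, 0x100280000001, 0x116c100048002, 0x1ec000048002, 0x280000001, 0x301c38001, 0x1f8181c16882,
  0x11aa381407002, 0x18301c20081, 0x14a281447002, 0x111e38142f002, 0xce18043b802, 0x1108281008081,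
  0x1092080457803, 0x111c100c30081, 0x116000146f003, 0x10bc381407003, 0x10bc201c72883, 0x1118181018081,
  0x1dc201873002, 0x10b2180073002, 0x1c001818081, 0x8000420081, 0x1104081469883, 0x18300c18881,
  0x1080081c46083, 0x1080101000003, 0x10000800001, 0x1000000800001, 0x1010000800001, 0x16e00005b802,
  0x136000033802, 0x1110381418801, 0x110c281410801, 0x810146f002, 0x11d4381407002, 0x11c2380c18002,
  0x104080038881, 0x12201822083, 0x200033003, 0x1004101008801, 0x132200033003, 0xc0381833003, 0x10c201828881,
  0x100100012082, 0xa2280812082, 0x1102000810002, 0x150000010002, 0x1152000810002, 0x301018881,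
  0x11a0181022083, 0x8101408081, 0x11be201c49882, 0x1014081410081, 0x6080c0b803, 0x6080015883, 0x18301038081,
  0x1ec100400003, 0x14281428001, 0x103c180c31082, 0x1114180430801, 0x1048000800802, 0x1048101445002,
  0x8100040882, 0x1104301038801, 0x108c30183c082, 0x1118200428881, 0x18000c38081, 0x1066281c52803,
  0xee181c38883, 0x10aa38142d003, 0x104100430881, 0x10f418003d003, 0xa0380028083, 0x11c101420801,
  0x111c301430081, 0x1058080419802, 0x104a081c0c882, 0x10c100428801, 0x1050301060003, 0x1118300c18001,
  0x1a000000802, 0x1100000000001, 0x300040083, 0x1040301c45003, 0xc0381847083, 0x108180408001,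
  0x108c001000802, 0xce001800802, 0x109e001000802, 0xdc001800802, 0x1f4181c03002, 0x1010081410881,
  0x14280000001, 0x11b6381c12082, 0x8100028001, 0x108100020001, 0x109638186b802, 0xc238146e082,
  0x1108301810881, 0x1056080014003, 0x110c101420801, 0xa0280010002, 0x18020003a082, 0x1104380c00001,
  0x8081f803, 0x6230101f803, 0x11c080c20881, 0x11b638083a082, 0x136080810002, 0x12408002b882,
  0x1014001800801, 0x1014001000801, 0x1004001000801, 0x180200010002, 0xa0380032082, 0x1118380808881,
  0x10a6280810002, 0x10a630045c082, 0x1168100c58882, 0x1018201820801, 0x1110201830001, 0x110a18081b882,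
  0x108080408001, 0x8100428081, 0x1004001401803, 0x1014001c05003, 0x1006001c01803, 0xf6281c69803,
  0xe0281c43003, 0x1000381c00081, 0xc2381407003, 0x1ea38141e803, 0x101c001800001, 0x11a4101420802,
  0x62301c20802, 0x10ea101c42882, 0x1014100828081, 0x100080028081, 0x1084081442882, 0x114301c30881,
  0xdc000c58003, 0x100c180000001, 0x100080079082, 0x10018003b002, 0x100080031082, 0x100180073002,
  0x100008081, 0x1004100408001, 0x1fe201861803, 0x1008180008001, 0x1050181070083, 0x1050080814003,
  0x11c6280014003, 0x10200820081, 0x11d8100060002, 0xc181c38001, 0x17c181856883, 0x11dc001c7c803,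
  0x11ca001872803, 0x42201810883, 0x50201814083, 0x80418801, 0x104380c46002, 0x104280825882, 0x1142281021082,
  0x1142380857082, 0x1010101020001, 0xce001c04803, 0x109a000c00003, 0x1104081020881, 0x300059083,
  0x1108180c10881, 0x13e281408883, 0x10c301c08081, 0x14e080452802, 0x1084080c46002, 0x1110180c28881,
  0x4080c56082, 0x1126300456082, 0x186000014002, 0x1184000814002, 0x1018280838801, 0x1d6101445003,
  0x1d6080800003, 0x110c000000001, 0x1072381c31882, 0x1072280454882, 0x600041c882, 0x6000c18002,
  0x1fe300c18002, 0x1fe28146f002, 0x11b808107a082, 0x1014080c10801, 0xf428146e883, 0x1108300020001,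
  0x1830105a082, 0x1830881, 0x1096080453802, 0x1104200800001, 0x1a301000003, 0x114a301000003,
  0x114a200876803, 0x101c181c30801, 0x10428086c802, 0x50200824802, 0x42201035882, 0x110080810001,
  0x113e00044f803, 0x101e08001e003, 0x4000c10081, 0x2810042a802, 0x28000462882, 0x1156180c62882,
  0x4080808081, 0x105a000800802, 0x108301008081, 0x1176201037803, 0xde00145d883, 0x1008001400001,
  0x1f228084a882, 0x810004a882, 0x1118080c00001, 0x1040181445083, 0x1062280c45083, 0x1062381001083,
  0x111c280c30081, 0x1fe38001e003, 0x280828881, 0x1fe201859083, 0x280810001, 0x115210144f802, 0x10010005a082,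
  0x100000081, 0x114630186a882, 0x11ac08106a882, 0x280800081, 0x1fe300c20802, 0x28100420802, 0x28000468882,
  0x11a220146c082, 0x11a2381c3a082, 0x18300000881, 0x178300058002, 0x16a301073882, 0x1104081c38881,
  0x16a38144c082, 0x10a4181448882, 0x118400142a802, 0x108180400001, 0x102410140b803, 0x62301c1e883,
  0x101808141e883, 0x100a080c0b803, 0xa2380c69883, 0x101c201430081, 0x120380073003, 0x115e001873003,
  0x115e100424803, 0x1fe380026883, 0x301020001, 0x11b0080c4f802, 0x201020081, 0x1100101428001,
  0x107e30101f803, 0x107e200872803, 0x28001463883, 0x2810100a083, 0x104300c20801, 0x1170080010002,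
  0xf6280810002, 0x1008301c20801, 0xe228142d002, 0x1ca38143c882, 0x1dc380037002, 0x1100081428081,
  0x1da181c03002, 0x1cc180008002, 0x116c080008002, 0x180030081, 0x124200833803, 0x101c301c18801,
  0x10b0281012082, 0x118380c38081, 0x116800142f002, 0xb4281447002, 0xa2280879802, 0x1018181438881,
  0x18301c45002, 0x1428801, 0xb6281c44882, 0xa028007a082, 0x180300058002, 0x110c001428801, 0x200011083,
  0x12028003b003, 0x1110100c38881, 0x12201033803, 0x100c300838881, 0x1ea201049083, 0xc2381472883,
  0x1092380073003, 0x110c380c28801, 0xc238141b882, 0x104380c0f082, 0x111c080018001, 0x4000c0f082,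
  0x78000c67082, 0x103e201076802, 0x118380c00001, 0x1036280445882, 0x1116200014002, 0x104200814002,
  0x1146200014002, 0x154200814002, 0x1008300020001, 0x111830044e883, 0xec180406883, 0xec001873003,
  0x118201038081, 0x108c180442002, 0xcc181843882, 0x103410182b882, 0x6230103e802, 0x111c381020881,
  0x11c181830001, 0x10ae200c73882, 0xee000072802, 0xee181836882, 0x10ae380037002, 0x10001837002,
  0x10001036882, 0x800881, 0x11bc180037003, 0x100c001800001, 0x1cc100424803, 0x1a300c24803, 0x1118201000001,
  0x106638001e003, 0xee000474083, 0x10aa201861803, 0x115a181809803, 0x108381410881, 0x1172200c18883,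
  0x1160201837003, 0xe0281c3d083, 0xf6280006883, 0x1118001c38001, 0x110e101c32082, 0x11c101418081,
  0x102a201464083, 0x101c180830881, 0x117e30001e002, 0x108281430881, 0x10be10182a083, 0x118808102a083,
  0x18301c20801, 0x10f0280010002, 0x1166080810002, 0x4080018881, 0x10c180000001, 0x1166000c18002,
  0x1174001837802, 0x30081, 0x119a18007b002, 0x10ba100420802, 0x1c000c00801, 0x10b2181473882, 0x178380c67082,
  0x1114080010001, 0x408085d082, 0x4080443882, 0xc181830001, 0x198281c2a803, 0x1008281828881, 0xbc00142d002,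
  0x1c380c00881, 0x1162001837002, 0x10c180020881, 0xbe000c2d083, 0x1c381830881, 0x13a080c18002,
  0x1a000c01802, 0x105e001405002, 0x108381430801, 0xde001859882, 0x1106081831882, 0x201010801,
  0x1014200010001, 0x100300038001, 0x18301038801, 0x4080049882, 0x4080c57802, 0x11d8281c43002,
  0x11ce28184d082, 0x1112281825082, 0x154280021882, 0x100c301438881, 0x14e180053883, 0x101c300018001,
  0x14a381466083, 0x78001c66083, 0x15018182d883, 0x1014381428001, 0x178281c57803, 0x180038081,
  0x124280800003, 0x124380c63883, 0xee181c77083, 0xee00043b883, 0x117c200c2f083, 0x1c380018001,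
  0x117c180c2f083, 0x10c080420881, 0x119e28083e803, 0x1004200010001, 0x1196281020883, 0x1d0280824083,
  0x201810801, 0x1d0301060003, 0x11a8001060003, 0x8101400001, 0x78001c7f803, 0x18618047f803, 0x1010100420801,
  0x19820101a082, 0x800100e882, 0x104280838801, 0x280028001, 0x301c18801, 0x1f8080c46003, 0x280010081,
  0x1010080c10801, 0xa2380c02083, 0x10e2181c03003, 0x100380028001, 0x10fc200c76082, 0xbc000077002,
  0x109e181877002, 0x110c200438081, 0x1096100c2c882, 0x1104380018001, 0x1a301c1f083, 0x104000018001,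
  0x110000030001, 0x18000020801, 0xc000008801, 0x10ee381877003, 0x11c6301c24803, 0x118201000001,
  0x1032281c56802, 0x10e6301c1e802, 0x12410040a002, 0x1018081018081, 0x200826883, 0x12201837003,
  0x8101000881, 0x11ba28007b003, 0x1ec08046e883, 0x110c181c38001, 0x10b430007d003, 0x10b4280800003,
  0x1164280800003, 0xf4280800003, 0xe228143b803, 0x117628142f003, 0x1022281447003, 0x11ba281453803,
  0x14280810881, 0x14a30105b803, 0x1018301c00001, 0x1004080400001, 0xa228086b803, 0x10106b803, 0x101060003,
  0xc18001, 0x12001020002, 0x106a301020002, 0x28100021882, 0x12001821882, 0x119a38186b802, 0x201820881,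
  0x1f8080c7e083, 0x1f8101038083, 0x11ae30003d003, 0x8100420081, 0x6000c19802, 0x600041d082, 0x11b8101c1d082,
  0x1008000c00801, 0x608041f083, 0x10c381830001]

theorem path_lt : path.all (fun j => Nat.blt j 8) = true := by decide +kernel

theorem labels_ok : labels (zp 0) path = labs := by decide +kernel

/-- `a` is different from all entries -/
private noncomputable def neAll (a : ℕ) (l : List ℕ) : Bool :=
  List.rec (motive := fun _ => Bool) true (fun b _ ih => and (not (Nat.beq a b)) ih) l

/-- no entry twice -/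
private noncomputable def nodupB (l : List ℕ) : Bool :=
  List.rec (motive := fun _ => Bool) true (fun a l ih => and (neAll a l) ih) l

private theorem neAll_sound {a : ℕ} : ∀ {l : List ℕ}, neAll a l = true → a ∉ l := by
  intro l
  induction l with
  | nil => intro _ h; exact absurd h List.not_mem_nil
  | cons b l ih =>
    intro h hm
    have h' : and (not (Nat.beq a b)) (neAll a l) = true := h
    rw [Bool.and_eq_true] at h'
    rcases List.mem_cons.1 hm with hab | hm
    · rw [hab, Nat.beq_refl] at h'
      exact absurd h'.1 (by simp)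
    · exact ih h'.2 hm

private theorem nodupB_sound : ∀ {l : List ℕ}, nodupB l = true → l.Nodup := by
  intro l
  induction l with
  | nil => intro _; exact List.nodup_nil
  | cons a l ih =>
    intro h
    have h' : and (neAll a l) (nodupB l) = true := h
    rw [Bool.and_eq_true] at h'
    exact List.nodup_cons.2 ⟨neAll_sound h'.1, ih h'.2⟩

theorem labs_nodup : labs.Nodup := nodupB_sound (by decide +kernel)

theorem labs_length : labs.length = 703 := by decide +kernel

end Cfsg.Agent.Omega.TitsIso.TitsSideIdx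

end
end

-- part: Mrg/Omega/TitsIso/Model
section
section


/-!
# The Tits group satisfies the relations; its class of central involutions has at least 703 elements
-/

set_option autoImplicit false

namespace Cfsg.Agent.Omega.TitsIso.Model

open Cfsg.Agent.ChevalleyStructure.Tits.Pack Cfsg.Agent.ChevalleyStructure.Tits.Data
  Cfsg.Agent.ChevalleyStructure.Tits.Sat Cfsg.Agent.ChevalleyStructure.Tits.Final
  Cfsg.Agent.ChevalleyStructure.Tits.Mat Cfsg.Agent.ChevalleyStructure.Tits.Order
  Cfsg.Agent.ChevalleyStructure.Tits.Main Cfsg.Agent.Omega.TitsIso.TitsSideRel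
  Cfsg.Agent.Omega.TitsIso.TitsSide Cfsg.Agent.Omega.TitsIso.TitsSideIdx

open scoped MatrixGroups

/-- the matrix of an element of the derived subgroup -/
noncomputable def mt (x : ↥(commutator ChevalleyStructure.Tits.Order.H0)) : Matrix I52 I52 (ZMod 2) :=
  (((x : ChevalleyStructure.Tits.Order.H0) : GL I52 (ZMod 2)) : Matrix I52 I52 (ZMod 2))

theorem mt_mul (x y : ↥(commutator ChevalleyStructure.Tits.Order.H0)) : mt (x * y) = mt x * mt y := by
  unfold mt
  rw [Subgroup.coe_mul, Subgroup.coe_mul, Units.val_mul]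

theorem mt_injective : Function.Injective mt := by
  intro x y h
  apply Subtype.ext
  apply Subtype.ext
  exact Units.ext h

theorem toMat_zp (i : ZMod 8) : toMat (zp i.val) = mt (ZC i) := by
  rw [zp_ok i, toMat_evalW]
  unfold mt
  have h1 : ((ZC i : ↥(commutator ChevalleyStructure.Tits.Order.H0)) : ChevalleyStructure.Tits.Order.H0) = ((zw i).map yH).prod := rfl
  have hlt : ∀ k ∈ zw i, k < 12 := fun k hk => by have := zw_lt i k hk; omega
  rw [h1, coe_list _ (zw_lt i), coe_word _ hlt]

theorem exists_val {j : ℕ} (hj : j < 8) : ∃ i : ZMod 8, i.val = j := by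
  refine ⟨(j : ZMod 8), ?_⟩
  rw [ZMod.val_natCast]
  exact Nat.mod_eq_of_lt hj

/-- `X` is the packed matrix of a conjugate of the first involution -/
def IsCl (X : ℕ) : Prop := ∃ g : ↥(commutator ChevalleyStructure.Tits.Order.H0), toMat X = mt (g * ZC 0 * g⁻¹)

theorem ZC_sq (i : ZMod 8) : ZC i * ZC i = 1 := rels_ZC.1 i

theorem IsCl.step {X : ℕ} (h : IsCl X) {j : ℕ} (hj : j < 8) : IsCl (cj j X) := by
  obtain ⟨g, hg⟩ := h
  obtain ⟨i, rfl⟩ := exists_val hj
  refine ⟨ZC i * g, ?_⟩
  have hi : (ZC i)⁻¹ = ZC i := inv_eq_of_mul_eq_one_left (ZC_sq i)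
  have h1 : ZC i * g * ZC 0 * (ZC i * g)⁻¹ = ZC i * (g * ZC 0 * g⁻¹) * ZC i := by
    rw [mul_inv_rev, hi]
    simp only [mul_assoc]
  rw [h1, mt_mul, mt_mul, ← hg, ← toMat_zp]
  unfold cj
  rw [toMat_mulP, toMat_mulP]

theorem isCl_zero : IsCl (zp 0) := ⟨1, by
  rw [one_mul, inv_one, mul_one]
  exact toMat_zp 0⟩

theorem lab_eq {X Y : ℕ} (h : toMat X = toMat Y) : lab X = lab Y := by
  have h52 : (4503599627370496 : ℕ) = 2 ^ 52 := by norm_num
  have hl : ∀ X : ℕ, lab X = X % 2 ^ 52 := fun X => by
    show X % 4503599627370496 = _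
    rw [h52]
  rw [hl, hl]
  apply Nat.eq_of_testBit_eq
  intro i
  rw [Nat.testBit_mod_two_pow, Nat.testBit_mod_two_pow]
  by_cases hi : i < 52
  · have key : ∀ r : I52, ix r = i → X.testBit i = Y.testBit i := by
      intro r hr
      have h1 := congrFun (congrFun h r) (Sum.inl 0)
      rw [toMat_apply, toMat_apply, ix_inl, hr] at h1
      simp only [Fin.val_zero, mul_zero, zero_add] at h1
      revert h1
      cases X.testBit i <;> cases Y.testBit i <;> simp [bz]
    have hb : X.testBit i = Y.testBit i := by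
      by_cases h4 : i < 4
      · exact key (Sum.inl ⟨i, h4⟩) rfl
      · refine key (Sum.inr ⟨i - 4, by omega⟩) ?_
        rw [ix_inr]
        show 4 + (i - 4) = i
        omega
    rw [hb]
  · simp [hi]

theorem labels_cl (l : List ℕ) (hl : ∀ j ∈ l, j < 8) : ∀ X, IsCl X → ∀ a ∈ labels X l, ∃ Y, IsCl Y ∧ lab Y = a := by
  induction l with
  | nil =>
    intro X hX a ha
    have h1 : labels X [] = [lab X] := rfl
    rw [h1, List.mem_singleton] at ha
    exact ⟨X, hX, ha.symm⟩
  | cons j l ih =>
    intro X hX a ha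
    have h1 : labels X (j :: l) = lab X :: labels (cj j X) l := rfl
    rw [h1, List.mem_cons] at ha
    rcases ha with ha | ha
    · exact ⟨X, hX, ha.symm⟩
    · exact ih (fun k hk => hl k (List.mem_cons_of_mem j hk)) _ (hX.step (hl j List.mem_cons_self)) a ha

theorem exists_of_mem {a : ℕ} (ha : a ∈ labs) : ∃ g : ↥(commutator ChevalleyStructure.Tits.Order.H0), ∃ X, toMat X = mt (g * ZC 0 * g⁻¹) ∧
    lab X = a := by
  rw [← labels_ok] at ha
  have hlt : ∀ j ∈ path, j < 8 := by
    have h := path_lt
    rw [List.all_eq_true] at h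
    intro j hj
    have := h j hj
    rwa [Nat.blt_eq] at this
  obtain ⟨Y, ⟨g, hg⟩, hY⟩ := labels_cl path hlt (zp 0) isCl_zero a ha
  exact ⟨g, Y, hg, hY⟩

theorem le_index : 703 ≤ (Subgroup.centralizer ({ZC 0} : Set ↥(commutator ChevalleyStructure.Tits.Order.H0))).index := by
  classical
  choose g X hg hX using fun a : {a // a ∈ labs.toFinset} => exists_of_mem (List.mem_toFinset.1 a.2)
  have hinj : Function.Injective fun a : {a // a ∈ labs.toFinset} =>
      (QuotientGroup.mk (g a) : ↥(commutator ChevalleyStructure.Tits.Order.H0) ⧸ Subgroup.centralizer ({ZC 0} : Set ↥(commutator ChevalleyStructure.Tits.Order.H0))) := by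
    intro a b hab
    have h1 := QuotientGroup.eq.1 hab
    rw [Subgroup.mem_centralizer_singleton_iff] at h1
    have h2 : g a * ZC 0 * (g a)⁻¹ = g b * ZC 0 * (g b)⁻¹ := by
      have h3 : (g a)⁻¹ * g b * ZC 0 = ZC 0 * ((g a)⁻¹ * g b) := h1
      rw [mul_inv_eq_iff_eq_mul]
      calc g a * ZC 0 = g a * (ZC 0 * ((g a)⁻¹ * g b)) * ((g b)⁻¹ * g a) := by group
        _ = g a * ((g a)⁻¹ * g b * ZC 0) * ((g b)⁻¹ * g a) := by rw [h3]
        _ = g b * ZC 0 * (g b)⁻¹ * g a := by group
    have h4 : toMat (X a) = toMat (X b) := by rw [hg a, hg b, h2]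
    have h5 := lab_eq h4
    rw [hX a, hX b] at h5
    exact Subtype.ext h5
  have h6 : Nat.card {a // a ∈ labs.toFinset} = 703 := by
    rw [Nat.card_eq_fintype_card, Fintype.card_coe, List.toFinset_card_of_nodup labs_nodup, labs_length]
  rw [← h6]
  exact Nat.card_le_card_of_injective _ hinj

theorem titsRel_ZC : TitsRel ZC := by
  obtain ⟨h1, h2, h3, h4, h5, h6, h7⟩ := rels_ZC
  exact ⟨h1, h2, h3, h4, h5, h6, h7⟩

theorem exists_of_eq (K : Subgroup (GL I52 (ZMod 2))) (hK : K = ChevalleyStructure.Tits.Order.H0) :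
    ∃ Z : ZMod 8 → ↥(commutator K), TitsRel Z ∧ Subgroup.closure (Set.range Z) = ⊤ ∧
      703 ≤ (Subgroup.centralizer ({Z 0} : Set ↥(commutator K))).index := by
  subst hK
  exact ⟨ZC, titsRel_ZC, closure_ZC, le_index⟩

/-- **The Tits group is a model of the relations.** -/
theorem exists_titsRel : ∃ Z : ZMod 8 → Cfsg.Lie.TitsGroup, TitsRel Z ∧ Subgroup.closure (Set.range Z) = ⊤ ∧
    703 ≤ (Subgroup.centralizer ({Z 0} : Set Cfsg.Lie.TitsGroup)).index :=
  exists_of_eq (Cfsg.Lie.twistedF4 (ZMod 2) 1) T0_eq_H0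

end Cfsg.Agent.Omega.TitsIso.Model

end

section


/-!
From the index bound to the isomorphism: a group `G` with the relations and `|G| ≤ |T|` is
isomorphic to the simple group `T` generated by elements with the relations.
-/

set_option autoImplicit false

namespace Cfsg.Agent.Omega.TitsIso

section Prod

variable {G T : Type*} [Group G] [Group T] {Zg : ZMod 8 → G} {Zt : ZMod 8 → T}

/-- the pairs -/
def Zp (Zg : ZMod 8 → G) (Zt : ZMod 8 → T) (i : ZMod 8) : G × T := (Zg i, Zt i)

theorem C_Zp (i : ZMod 8) : C (Zp Zg Zt) i = (C Zg i, C Zt i) := by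
  simp [C, Zp, Prod.mk_mul_mk]

theorem TitsRel.prod (hg : TitsRel Zg) (ht : TitsRel Zt) : TitsRel (Zp Zg Zt) where
  sq i := by simp only [Zp, Prod.mk_mul_mk, hg.sq, ht.sq]; rfl
  c1 i := by simp only [Zp, Prod.mk_mul_mk, hg.c1 i, ht.c1 i]
  c2 i := by simp only [Zp, Prod.mk_mul_mk, hg.c2 i, ht.c2 i]
  o4 i := by simp only [Zp, Prod.mk_mul_mk, Prod.pow_mk, hg.o4 i, ht.o4 i]; rfl
  o5 i := by simp only [Zp, Prod.mk_mul_mk, Prod.pow_mk, hg.o5 i, ht.o5 i]; rfl
  r i := by
    rw [C_Zp]; simp only [Zp, Prod.mk_mul_mk, Prod.inv_mk, hg.r i, ht.r i]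
  l i := by
    rw [C_Zp]; simp only [Zp, Prod.mk_mul_mk, Prod.inv_mk, hg.l i, ht.l i]

/-- relations pull back along injective homomorphisms -/
theorem TitsRel.of_injective {M N : Type*} [Group M] [Group N] (f : M →* N)
    (hf : Function.Injective f) {Z : ZMod 8 → M} (h : TitsRel (fun i => f (Z i))) : TitsRel Z := by
  have hC : ∀ i, f (C Z i) = C (fun i => f (Z i)) i := by intro i; simp [C]
  refine ⟨fun i => hf ?_, fun i => hf ?_, fun i => hf ?_, fun i => hf ?_, fun i => hf ?_,
    fun i => hf ?_, fun i => hf ?_⟩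
  · simpa using h.sq i
  · simpa using h.c1 i
  · simpa using h.c2 i
  · simpa using h.o4 i
  · simpa using h.o5 i
  · simpa [hC] using h.r i
  · simpa [hC] using h.l i

end Prod

theorem TitsRel.mul_pow_eq {M : Type*} [Group M] {Z : ZMod 8 → M} (h : TitsRel Z)
    (hne : Z 0 ≠ Z 4) {k l : ℕ} (hk : k < 5) (hl : l < 5)
    (hc : Commute (Z 0) (((Z 0 * Z 4) ^ k)⁻¹ * (Z 0 * Z 4) ^ l)) : k = l := by
  set u := Z 0 * Z 4 with hu
  have h5 : u ^ 5 = 1 := by have := h.o5 0; rwa [zero_add] at this
  have hu1 : u ≠ 1 := by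
    intro e
    apply hne
    have := mul_eq_one_iff_eq_inv.mp e
    rw [this, h.inv]
  have : Fact (Nat.Prime 5) := ⟨by norm_num⟩
  have ho : orderOf u = 5 := orderOf_eq_prime h5 hu1
  have hinv : Z 0 * u * (Z 0)⁻¹ = u⁻¹ := by
    rw [hu, mul_inv_rev, h.inv 0, h.inv 4, ← mul_assoc, h.sq, one_mul]
  have hd : Commute (Z 0) (u ^ ((l : ℤ) - k)) := by
    have : (u ^ k)⁻¹ * u ^ l = u ^ ((l : ℤ) - k) := by
      rw [sub_eq_neg_add, zpow_add, zpow_neg, zpow_natCast, zpow_natCast]
    rwa [this] at hc
  have h2 : (u ^ ((l : ℤ) - k)) = (u ^ ((l : ℤ) - k))⁻¹ := by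
    have e1 : Z 0 * u ^ ((l : ℤ) - k) * (Z 0)⁻¹ = u ^ ((l : ℤ) - k) := by
      rw [hd.eq, mul_inv_cancel_right]
    rw [← conj_zpow, hinv, inv_zpow] at e1
    exact e1.symm
  have h3 : u ^ (2 * ((l : ℤ) - k)) = 1 := by
    rw [two_mul, zpow_add]
    nth_rewrite 1 [h2]
    exact inv_mul_cancel _
  have h4 := orderOf_dvd_iff_zpow_eq_one.mpr h3
  rw [ho] at h4
  push_cast at h4
  omega

/-- **Goursat**: the isomorphism. -/
theorem iso_of_rel.{u, v} {G : Type u} {T : Type v} [Group G] [Group T] [Finite G] [Finite T]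
    [IsSimpleGroup T] (hI : IndexLe.{max u v}) {Zg : ZMod 8 → G} {Zt : ZMod 8 → T} (hg : TitsRel Zg) (ht : TitsRel Zt)
    (gen : Subgroup.closure (Set.range Zt) = ⊤) (hne : Zg 0 ≠ Zg 4)
    (hcard : Nat.card G ≤ Nat.card T)
    (hT : 703 ≤ (Subgroup.centralizer {Zt 0}).index) : Nonempty (G ≃* T) := by
  classical
  set S : Subgroup (G × T) := Subgroup.closure (Set.range (Zp Zg Zt)) with hS
  have hmem : ∀ i, Zp Zg Zt i ∈ S := fun i => Subgroup.subset_closure ⟨i, rfl⟩
  set Z : ZMod 8 → S := fun i => ⟨Zp Zg Zt i, hmem i⟩ with hZ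
  have hrel : TitsRel Z := TitsRel.of_injective S.subtype S.subtype_injective (hg.prod ht)
  have hgen : Subgroup.closure (Set.range Z) = ⊤ := by
    apply Subgroup.map_injective S.subtype_injective
    rw [MonoidHom.map_closure, ← Set.range_comp, ← MonoidHom.range_eq_map, Subgroup.range_subtype]
    exact hS.symm
  obtain ⟨hidx, hidx0⟩ := hI S Z hrel hgen
  set p1 : S →* G := (MonoidHom.fst G T).comp S.subtype with hp1
  set p2 : S →* T := (MonoidHom.snd G T).comp S.subtype with hp2
  have hp1Z : ∀ i, p1 (Z i) = Zg i := fun i => rfl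
  have hp2Z : ∀ i, p2 (Z i) = Zt i := fun i => rfl
  have hp2s : Function.Surjective p2 := by
    rw [← MonoidHom.range_eq_top, eq_top_iff, ← gen, Subgroup.closure_le]
    rintro _ ⟨i, rfl⟩
    exact ⟨Z i, hp2Z i⟩
  have hext : ∀ m : S, p1 m = 1 → p2 m = 1 → m = 1 := by
    intro m h1 h2
    apply Subtype.ext
    exact Prod.ext h1 h2
  have hnorm : (p1.ker.map p2).Normal := Subgroup.Normal.map inferInstance p2 hp2s
  rcases hnorm.eq_bot_or_eq_top with hb | ht'
  · have hinj1 : Function.Injective p1 := by
      rw [injective_iff_map_eq_one]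
      intro m hm
      apply hext m hm
      have : p2 m ∈ p1.ker.map p2 := ⟨m, hm, rfl⟩
      rw [hb] at this
      exact Subgroup.mem_bot.mp this
    have hc1 : Nat.card S ≤ Nat.card G := Nat.card_le_card_of_injective p1 hinj1
    have hc2 : Nat.card T ≤ Nat.card S := Nat.card_le_card_of_surjective p2 hp2s
    have b1 : Function.Bijective p1 :=
      (Nat.bijective_iff_injective_and_card p1).mpr ⟨hinj1, by omega⟩
    have b2 : Function.Bijective p2 :=
      (Nat.bijective_iff_surjective_and_card p2).mpr ⟨hp2s, by omega⟩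
    exact ⟨(MulEquiv.ofBijective p1 b1).symm.trans (MulEquiv.ofBijective p2 b2)⟩
  · exfalso
    have hlift : ∀ t : T, ∃ m : S, p1 m = 1 ∧ p2 m = t := by
      intro t
      have : t ∈ p1.ker.map p2 := by rw [ht']; trivial
      obtain ⟨m, hm, hmt⟩ := this
      exact ⟨m, hm, hmt⟩
    choose lft hl1 hl2 using hlift
    let f : Fin 5 × (T ⧸ Subgroup.centralizer {Zt 0}) → S ⧸ Subgroup.centralizer {Z 0} :=
      fun x => QuotientGroup.mk (lft (x.2.out * ((Zt 0 * Zt 4) ^ (x.1 : ℕ))⁻¹) *
        (Z 0 * Z 4) ^ (x.1 : ℕ))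
    have hf : Function.Injective f := by
      rintro ⟨k, t⟩ ⟨l, t'⟩ hkl
      have hkl' := QuotientGroup.eq.mp hkl
      rw [Subgroup.mem_centralizer_singleton_iff] at hkl'
      have h1 := congrArg p1 hkl'
      have h2 := congrArg p2 hkl'
      simp only [map_mul, map_inv, map_pow, hp1Z, hp2Z, hl1, hl2, mul_inv_rev, one_mul, inv_one,
        mul_one] at h1 h2
      have hkl1 : (k : ℕ) = l := by
        refine hg.mul_pow_eq hne k.2 l.2 ?_
        exact h1.symm
      have hkl2 : k = l := Fin.ext hkl1
      subst hkl2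
      have h3 : t = t' := by
        rw [← t.out_eq', ← t'.out_eq']
        rw [Quotient.eq'', QuotientGroup.leftRel_apply, Subgroup.mem_centralizer_singleton_iff]
        simp only [inv_inv] at h2
        have e : ((Zt 0 * Zt 4) ^ (k : ℕ))⁻¹ * ((Zt 0 * Zt 4) ^ (k : ℕ) * (Quotient.out t)⁻¹) *
            (Quotient.out t' * ((Zt 0 * Zt 4) ^ (k : ℕ))⁻¹ * (Zt 0 * Zt 4) ^ (k : ℕ)) =
            (Quotient.out t)⁻¹ * Quotient.out t' := by group
        rw [e] at h2
        exact h2
      rw [h3]
    have hc := Nat.card_le_card_of_injective f hf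
    have h1 : Nat.card (Fin 5 × (T ⧸ Subgroup.centralizer {Zt 0})) =
        5 * (Subgroup.centralizer {Zt 0}).index := by
      rw [Nat.card_prod, Nat.card_fin]; rfl
    have h2 : Nat.card (S ⧸ Subgroup.centralizer {Z 0}) =
        (Subgroup.centralizer {Z 0}).index := rfl
    rw [h1, h2] at hc
    have h3 : (Subgroup.centralizer {Z 0}).index ≤ (H0 Z).index :=
      Subgroup.index_antitone hrel.H0_le_centralizer
    omega

end Cfsg.Agent.Omega.TitsIso

end
end
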